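import Mathlib

set_option autoImplicit false
set_option backward.isDefEq.respectTransparency false
set_option backward.defeqAttrib.useBackward true
set_option linter.style.haveILetI false

/-!
# Affineness along thickenings
-/

universe u

open CategoryTheory AlgebraicGeometry TopologicalSpace Opposite

namespace Groth.Agent.Thicken

/-- A power of an element infinitesimally close to `s` is integral and divisible by `s`. -/
theorem exists_bound {A B : Type u} [CommRing A] [CommRing B] [Algebra A B] (s : A)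
    [IsLocalization.Away s B] (x : B) (h : IsNilpotent (x - algebraMap A B s)) :
    ∃ k : ℕ, ∀ n, k ≤ n → ∃ a, algebraMap A B (s * a) = x ^ (n + 1) := by
  obtain ⟨M, hM⟩ := h
  obtain ⟨k, hk⟩ : ∃ k : ℕ, ∀ i < M, ∃ a, algebraMap A B a =
      algebraMap A B s ^ k * (x - algebraMap A B s) ^ i := by
    clear hM
    induction M with
    | zero => exact ⟨0, fun i hi => absurd hi (Nat.not_lt_zero i)⟩
    | succ M ih =>
      obtain ⟨k, hk⟩ := ih
      obtain ⟨l, a, hl⟩ := IsLocalization.Away.surj s ((x - algebraMap A B s) ^ M)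
      refine ⟨k + l, fun i hi => ?_⟩
      rcases Nat.lt_succ_iff_lt_or_eq.mp hi with hi | rfl
      · obtain ⟨b, hb⟩ := hk i hi
        exact ⟨s ^ l * b, by rw [map_mul, map_pow, hb, pow_add]; ring⟩
      · exact ⟨s ^ k * a, by rw [map_mul, map_pow, ← hl, pow_add]; ring⟩
  refine ⟨k + M, fun n hn => ?_⟩
  let S : Ideal A := Ideal.span {s}
  suffices h : x ^ (n + 1) ∈ AddSubgroup.map (algebraMap A B : A →+* B).toAddMonoidHom
      S.toAddSubgroup by
    obtain ⟨c, hc, hce⟩ := h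
    obtain ⟨a, rfl⟩ := Ideal.mem_span_singleton'.mp hc
    exact ⟨a, by rw [mul_comm]; exact hce⟩
  rw [show x = (x - algebraMap A B s) + algebraMap A B s by ring, add_pow]
  refine AddSubgroup.sum_mem _ fun i hi => ?_
  by_cases hiM : i < M
  · obtain ⟨a, ha⟩ := hk i hiM
    refine ⟨s ^ (n + 1 - i - k - 1) * s * a * ((n + 1).choose i : A), ?_, ?_⟩
    · exact Ideal.mem_span_singleton'.mpr ⟨s ^ (n + 1 - i - k - 1) * a * ((n + 1).choose i : A),
        by ring⟩
    · show algebraMap A B _ = _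
      rw [map_mul, map_mul, ← pow_succ, map_pow, map_natCast, ha, ← mul_assoc (algebraMap A B s ^ _),
        ← pow_add, show n + 1 - i - k - 1 + 1 + k = n + 1 - i by omega]
      ring
  · rw [show i = M + (i - M) by omega, pow_add, hM, zero_mul, zero_mul, zero_mul]
    exact AddSubgroup.zero_mem _

theorem pow_eq_pow {A : Type u} [CommRing A] {x y : A} {m m' M : ℕ} (hm : m ≤ M) (hm' : m' ≤ M)
    (h1 : x ^ m * (x - y) = 0) (h2 : y ^ m' * (y - x) = 0) :
    x ^ (2 * M + 1) = y ^ (2 * M + 1) := by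
  rw [← sub_eq_zero, ← geom_sum₂_mul, Finset.sum_mul]
  refine Finset.sum_eq_zero fun l hl => ?_
  rw [Finset.mem_range] at hl
  by_cases hl' : m ≤ l
  · calc x ^ l * y ^ (2 * M + 1 - 1 - l) * (x - y)
        = x ^ (l - m) * y ^ (2 * M + 1 - 1 - l) * (x ^ m * (x - y)) := by
          conv_lhs => rw [show l = (l - m) + m by omega, pow_add]
          rw [show 2 * M + 1 - 1 - l = 2 * M + 1 - 1 - (l - m + m) by omega]
          ring
      _ = 0 := by rw [h1, mul_zero]
  · calc x ^ l * y ^ (2 * M + 1 - 1 - l) * (x - y)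
        = -(x ^ l * y ^ (2 * M + 1 - 1 - l - m') * (y ^ m' * (y - x))) := by
          conv_lhs => rw [show 2 * M + 1 - 1 - l = (2 * M + 1 - 1 - l - m') + m' by omega, pow_add]
          ring
      _ = 0 := by rw [h2, mul_zero, neg_zero]

theorem res_res {X : Scheme.{u}} {U V W : X.Opens} (h : V ≤ U) (h' : W ≤ V) (r : Γ(X, U)) :
    X.presheaf.map (homOfLE h').op (X.presheaf.map (homOfLE h).op r) =
      X.presheaf.map (homOfLE (h'.trans h)).op r :=
  (congrArg (fun φ => φ r) (X.presheaf.map_comp (homOfLE h).op (homOfLE h').op)).symm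

theorem app_res {X Y : Scheme.{u}} (t : X ⟶ Y) {U V : Y.Opens} (h : V ≤ U) (r : Γ(Y, U)) :
    t.app V (Y.presheaf.map (homOfLE h).op r) =
      X.presheaf.map (homOfLE (t.preimage_mono h)).op (t.app U r) :=
  congrArg (fun φ => φ r) (t.naturality (homOfLE h).op)

/-- An open subset which is infinitesimally a basic open is a basic open. -/
theorem exists_global {X : Scheme.{u}} [CompactSpace X] [QuasiSeparatedSpace X] (D : X.Opens)
    (g : Γ(X, D)) (hg : X.basicOpen g = D) (W₀ : X.affineOpens) (hW₀ : D ≤ W₀.1)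
    (h : ∀ W : X.affineOpens, ∃ s : Γ(X, W.1), ∃ hs : X.basicOpen s = W.1 ⊓ D,
      IsNilpotent (X.presheaf.map (homOfLE (hs.le.trans inf_le_right)).op g -
        X.presheaf.map (homOfLE (X.basicOpen_le s)).op s)) :
    ∃ (N : ℕ) (H : Γ(X, ⊤)), 0 < N ∧ X.basicOpen H = D ∧
      X.presheaf.map (homOfLE (le_top : D ≤ ⊤)).op H = g ^ N := by
  classical
  obtain ⟨S₀, hSfin₀, hS₀⟩ := isCompact_and_isOpen_iff_finite_and_eq_biUnion_affineOpens.mp
    ⟨isCompact_univ (X := X), isOpen_univ⟩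
  let S : Set X.affineOpens := insert W₀ S₀
  have hSfin : S.Finite := hSfin₀.insert W₀
  have hS : (Set.univ : Set X) = ⋃ i ∈ S, (i.1 : Set X) := by
    refine (Set.eq_univ_of_univ_subset ?_).symm
    rw [hS₀]
    exact Set.biUnion_subset_biUnion_left (Set.subset_insert _ _)
  haveI := hSfin.to_subtype
  haveI := Fintype.ofFinite S
  choose s hs hnil using h
  have key : ∀ W : X.affineOpens, ∃ k : ℕ, ∀ n, k ≤ n → ∃ a : Γ(X, W.1),
      X.presheaf.map (homOfLE (X.basicOpen_le (s W))).op (s W * a) =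
        X.presheaf.map (homOfLE ((hs W).le.trans inf_le_right)).op g ^ (n + 1) := by
    intro W
    letI := (X.presheaf.map (homOfLE (X.basicOpen_le (s W))).op).hom.toAlgebra
    haveI := W.2.isLocalization_basicOpen (s W)
    exact exists_bound (A := Γ(X, W.1)) (B := Γ(X, X.basicOpen (s W))) (s W) _ (hnil W)
  choose k hk using key
  let n := Finset.univ.sup fun W : S => k W.1
  have hn : ∀ W : S, ∃ a : Γ(X, W.1.1),
      X.presheaf.map (homOfLE (X.basicOpen_le (s W.1))).op (s W.1 * a) =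
        X.presheaf.map (homOfLE ((hs W.1).le.trans inf_le_right)).op g ^ (n + 1) := fun W =>
    hk W.1 n (Finset.le_sup (f := fun W : S => k W.1) (Finset.mem_univ W))
  choose a ha using hn
  let b : ∀ W : S, Γ(X, W.1.1) := fun W => s W.1 * a W
  have hb : ∀ W : S, X.basicOpen (b W) = W.1.1 ⊓ D := by
    intro W
    refine le_antisymm (((X.basicOpen_mul _ _).le.trans inf_le_left).trans (hs W.1).le) ?_
    intro z hz
    have hz' : z ∈ X.basicOpen (s W.1) := (hs W.1).ge hz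
    have hz2 : z ∈ X.basicOpen (X.presheaf.map (homOfLE (X.basicOpen_le (s W.1))).op (b W)) := by
      rw [ha W, Scheme.basicOpen_pow _ _ (Nat.succ_pos n), Scheme.basicOpen_res]
      exact ⟨hz', hg.ge hz.2⟩
    rw [Scheme.basicOpen_res] at hz2
    exact hz2.2
  have hov : ∀ i j : S, ∃ m : ℕ,
      (X.presheaf.map (homOfLE (inf_le_left : i.1.1 ⊓ j.1.1 ≤ i.1.1)).op (b i)) ^ m *
        (X.presheaf.map (homOfLE (inf_le_left : i.1.1 ⊓ j.1.1 ≤ i.1.1)).op (b i) -
          X.presheaf.map (homOfLE (inf_le_right : i.1.1 ⊓ j.1.1 ≤ j.1.1)).op (b j)) = 0 := by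
    intro i j
    refine exists_pow_mul_eq_zero_of_res_basicOpen_eq_zero_of_isCompact X
      (QuasiSeparatedSpace.inter_isCompact _ _ i.1.1.2 i.1.2.isCompact j.1.1.2 j.1.2.isCompact) _ _ ?_
    have hbase : X.basicOpen (X.presheaf.map (homOfLE (inf_le_left : i.1.1 ⊓ j.1.1 ≤ i.1.1)).op (b i))
        ≤ i.1.1 ⊓ j.1.1 ⊓ D := by
      rw [Scheme.basicOpen_res, hb i]
      exact inf_le_inf_left _ inf_le_right
    suffices key : ∀ (O : X.Opens) (hle : O ≤ i.1.1 ⊓ j.1.1), O ≤ D →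
        X.presheaf.map (homOfLE hle).op
          (X.presheaf.map (homOfLE (inf_le_left : i.1.1 ⊓ j.1.1 ≤ i.1.1)).op (b i) -
            X.presheaf.map (homOfLE (inf_le_right : i.1.1 ⊓ j.1.1 ≤ j.1.1)).op (b j)) = 0 from
      key _ (X.basicOpen_le _) (hbase.trans inf_le_right)
    intro O hle hOD
    have hOi : O ≤ X.basicOpen (s i.1) := fun z hz => (hs i.1).ge ⟨(hle hz).1, hOD hz⟩
    have hOj : O ≤ X.basicOpen (s j.1) := fun z hz => (hs j.1).ge ⟨(hle hz).2, hOD hz⟩
    have hi := congrArg (X.presheaf.map (homOfLE hOi).op) (ha i)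
    have hj := congrArg (X.presheaf.map (homOfLE hOj).op) (ha j)
    simp only [map_pow, res_res] at hi hj
    rw [map_sub, sub_eq_zero, res_res, res_res]
    exact hi.trans hj.symm
  choose m hm using hov
  let M := Finset.univ.sup fun p : S × S => m p.1 p.2
  let H : ∀ W : S, Γ(X, W.1.1) := fun W => b W ^ (2 * M + 1)
  have hcompat : ∀ i j : S,
      X.presheaf.map (homOfLE (inf_le_left : i.1.1 ⊓ j.1.1 ≤ i.1.1)).op (H i) =
        X.presheaf.map (homOfLE (inf_le_right : i.1.1 ⊓ j.1.1 ≤ j.1.1)).op (H j) := by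
    intro i j
    have h1 := hm i j
    have h2 := hm j i
    have h2' := congrArg (X.presheaf.map (homOfLE (inf_comm i.1.1 j.1.1).le).op) h2
    simp only [map_mul, map_sub, map_pow, map_zero, ← CommRingCat.comp_apply,
      ← X.presheaf.map_comp] at h2'
    simp only [H, map_pow]
    generalize hx : X.presheaf.map (homOfLE (inf_le_left : i.1.1 ⊓ j.1.1 ≤ i.1.1)).op (b i) = x at h1
    generalize hy : X.presheaf.map (homOfLE (inf_le_right : i.1.1 ⊓ j.1.1 ≤ j.1.1)).op (b j) = y at h1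
    have h3 : y ^ m j i * (y - x) = 0 := by
      rw [← hx, ← hy]
      exact h2'
    have hmi : m i j ≤ M := Finset.le_sup (f := fun p : S × S => m p.1 p.2) (Finset.mem_univ (i, j))
    have hmj : m j i ≤ M := Finset.le_sup (f := fun p : S × S => m p.1 p.2) (Finset.mem_univ (j, i))
    exact pow_eq_pow hmi hmj h1 h3
  obtain ⟨G, hG, -⟩ := TopCat.Sheaf.existsUnique_gluing' X.sheaf (fun W : S => W.1.1) ⊤
    (fun W => homOfLE le_top)
    (fun z _ => by
      have hz : z ∈ (Set.univ : Set X) := Set.mem_univ z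
      rw [hS] at hz
      obtain ⟨W, hW, hzW⟩ := Set.mem_iUnion₂.mp hz
      exact Opens.mem_iSup.mpr ⟨⟨W, hW⟩, hzW⟩) H hcompat
  refine ⟨(n + 1) * (2 * M + 1), G, by positivity, Opens.ext (Set.ext fun z => ?_), ?_⟩
  swap
  · have hDs : D ≤ X.basicOpen (s W₀) := fun z hz => (hs W₀).ge ⟨hW₀ hz, hz⟩
    have h1 := congrArg (fun r => X.presheaf.map (homOfLE hW₀).op r) (hG ⟨W₀, Set.mem_insert _ _⟩)
    have h2 := congrArg (X.presheaf.map (homOfLE hDs).op) (ha ⟨W₀, Set.mem_insert _ _⟩)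
    simp only [map_pow, H, ← CommRingCat.comp_apply, ← X.presheaf.map_comp] at h1 h2
    rw [pow_mul]
    refine Eq.trans ?_ (h1.trans (congrArg (· ^ (2 * M + 1)) (h2.trans ?_)))
    · exact (congrArg (fun φ : Γ(X, ⊤) ⟶ Γ(X, D) => φ G) (X.presheaf.map_comp _ _).symm).symm
    · rw [show (homOfLE ((hs W₀).le.trans inf_le_right)).op ≫ (homOfLE hDs).op = 𝟙 (op D) from
        Subsingleton.elim _ _, X.presheaf.map_id]
      rfl
  have hz : z ∈ (Set.univ : Set X) := Set.mem_univ z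
  rw [hS] at hz
  obtain ⟨W, hW, hzW⟩ := Set.mem_iUnion₂.mp hz
  have hGW := hG ⟨W, hW⟩
  have e : X.basicOpen (H ⟨W, hW⟩) = W.1 ⊓ X.basicOpen G := by
    rw [← hGW]
    exact Scheme.basicOpen_res X G _
  have e2 : X.basicOpen (H ⟨W, hW⟩) = W.1 ⊓ D := by
    rw [Scheme.basicOpen_pow _ _ (Nat.succ_pos _), hb]
  constructor
  · exact fun h => ((e.symm.trans e2).le ⟨hzW, h⟩).2
  · exact fun h => ((e2.symm.trans e).le ⟨hzW, h⟩).2

theorem isNilpotent_of_app_eq_zero {X X' : Scheme.{u}} (t : X ⟶ X') (ht : Function.Surjective t)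
    (U : X'.Opens) (hU : IsCompact (U : Set X')) (r : Γ(X', U)) (h : t.app U r = 0) :
    IsNilpotent r := by
  rw [Scheme.isNilpotent_iff_basicOpen_eq_bot_of_isCompact hU, eq_bot_iff]
  intro z hz
  obtain ⟨x, rfl⟩ := ht z
  have h1 : x ∈ t ⁻¹ᵁ X'.basicOpen r := hz
  rw [Scheme.preimage_basicOpen, h, Scheme.basicOpen_zero] at h1
  exact h1

/-- Near every point an affine open which is the non-vanishing locus of a global function. -/
theorem exists_affine_basicOpen {X X' : Scheme.{u}} (t : X ⟶ X') [IsClosedImmersion t]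
    (ht : Function.Surjective t) [CompactSpace X'] [QuasiSeparatedSpace X']
    (f : Γ(X, ⊤)) (W₀ : X'.Opens) (hW₀ : IsAffineOpen W₀) (hfW : X.basicOpen f ≤ t ⁻¹ᵁ W₀) :
    ∃ (N : ℕ) (H : Γ(X', ⊤)), 0 < N ∧ IsAffineOpen (X'.basicOpen H) ∧
      t ⁻¹ᵁ X'.basicOpen H = X.basicOpen f ∧
      X.presheaf.map (homOfLE (le_top : X.basicOpen f ≤ ⊤)).op (t.appTop H) =
        X.presheaf.map (homOfLE (le_top : X.basicOpen f ≤ ⊤)).op f ^ N := by
  have lift : ∀ W : X'.affineOpens, ∃ s : Γ(X', W.1),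
      t.app W.1 s = X.presheaf.map (homOfLE (le_top : t ⁻¹ᵁ W.1 ≤ ⊤)).op f :=
    fun W => t.app_surjective W.1 W.2 _
  choose s hs using lift
  have hpre : ∀ W : X'.affineOpens, t ⁻¹ᵁ X'.basicOpen (s W) = t ⁻¹ᵁ W.1 ⊓ X.basicOpen f := by
    intro W
    rw [Scheme.preimage_basicOpen, hs, Scheme.basicOpen_res]
  let W₁ : X'.affineOpens := ⟨W₀, hW₀⟩
  let D := X'.basicOpen (s W₁)
  have hD : t ⁻¹ᵁ D = X.basicOpen f := by rw [hpre]; exact inf_eq_right.mpr hfW
  let g : Γ(X', D) := X'.presheaf.map (homOfLE (X'.basicOpen_le (s W₁))).op (s W₁)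
  have hg : X'.basicOpen g = D := by
    rw [Scheme.basicOpen_res]
    exact inf_idem D
  obtain ⟨N, H, hN, hH, hHg⟩ := exists_global D g hg W₁ (X'.basicOpen_le _) fun W => by
    have hsD : X'.basicOpen (s W) = W.1 ⊓ D := by
      refine Opens.ext (Set.ext fun z => ?_)
      obtain ⟨y, rfl⟩ := ht z
      have h1 := SetLike.ext_iff.mp (hpre W) y
      have h2 := SetLike.ext_iff.mp hD y
      constructor
      · intro hy
        exact ⟨X'.basicOpen_le _ hy, h2.mpr (h1.mp hy).2⟩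
      · intro hy
        exact h1.mpr ⟨hy.1, h2.mp hy.2⟩
    refine ⟨s W, hsD, isNilpotent_of_app_eq_zero t ht _ (W.2.basicOpen (s W)).isCompact _ ?_⟩
    rw [map_sub, sub_eq_zero]
    simp only [g, D, app_res, res_res, hs]
  refine ⟨N, H, hN, hH ▸ hW₀.basicOpen _, hH ▸ hD, ?_⟩
  have h1 := congrArg (fun r => X.presheaf.map (homOfLE hD.ge).op (t.app D r)) hHg
  simp only [g, D, map_pow, app_res, hs, res_res] at h1
  exact h1

/-- Some power of such an `f` lifts. -/
theorem exists_pow_lift {X X' : Scheme.{u}} (t : X ⟶ X') [IsClosedImmersion t]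
    (ht : Function.Surjective t) [CompactSpace X'] [QuasiSeparatedSpace X'] [CompactSpace X]
    (f : Γ(X, ⊤)) (W₀ : X'.Opens) (hW₀ : IsAffineOpen W₀) (hfW : X.basicOpen f ≤ t ⁻¹ᵁ W₀) :
    ∃ (N : ℕ) (H : Γ(X', ⊤)), 0 < N ∧ t.appTop H = f ^ N := by
  obtain ⟨N, H, hN, -, hpre, hres⟩ := exists_affine_basicOpen t ht f W₀ hW₀ hfW
  have hc : X.basicOpen (t.appTop H) = X.basicOpen f := by
    rw [← Scheme.preimage_basicOpen_top]; exact hpre
  have hzero : ∀ (p : Γ(X, ⊤)), X.basicOpen p = X.basicOpen f →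
      (t.appTop H - f ^ N) |_ (X.basicOpen p) = 0 := by
    intro p hp
    show X.presheaf.map (homOfLE (X.basicOpen_le p)).op _ = 0
    generalize X.basicOpen_le p = e
    revert e
    rw [hp]
    intro e
    rw [map_sub, map_pow, sub_eq_zero]
    exact hres
  obtain ⟨a, ha⟩ := exists_pow_mul_eq_zero_of_res_basicOpen_eq_zero_of_isCompact X
    (U := ⊤) isCompact_univ _ _ (hzero _ hc)
  obtain ⟨b, hb⟩ := exists_pow_mul_eq_zero_of_res_basicOpen_eq_zero_of_isCompact X
    (U := ⊤) isCompact_univ _ _ (hzero _ (Scheme.basicOpen_pow X f hN))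
  refine ⟨N * (2 * (max a b) + 1), H ^ (2 * (max a b) + 1), by positivity, ?_⟩
  rw [map_pow, pow_mul]
  exact pow_eq_pow (le_max_left a b) (le_max_right a b) ha
    (by rw [← neg_sub (t.appTop H) (f ^ N), mul_neg, hb, neg_zero])

theorem compactSpace {X X' : Scheme.{u}} (t : X ⟶ X') (ht : Function.Surjective t) [CompactSpace X] :
    CompactSpace X' := by
  refine ⟨?_⟩
  rw [← ht.range_eq]
  exact isCompact_range t.continuous

theorem quasiSeparatedSpace {X X' : Scheme.{u}} (t : X ⟶ X') [IsClosedImmersion t]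
    (ht : Function.Surjective t) [QuasiSeparatedSpace X] : QuasiSeparatedSpace X' := by
  refine ⟨fun U V hU hUc hV hVc => ?_⟩
  have h := (QuasiSeparatedSpace.inter_isCompact (t ⁻¹' U) (t ⁻¹' V) (hU.preimage t.continuous)
    (t.isClosedEmbedding.isCompact_preimage hUc) (hV.preimage t.continuous)
    (t.isClosedEmbedding.isCompact_preimage hVc)).image t.continuous
  rwa [← Set.preimage_inter, Set.image_preimage_eq _ ht] at h

/-- A scheme with an affine thickened subscheme is affine. -/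
theorem isAffine {X X' : Scheme.{u}} (t : X ⟶ X') [IsClosedImmersion t]
    (ht : Function.Surjective t) [IsAffine X] : IsAffine X' := by
  haveI := compactSpace t ht
  haveI := quasiSeparatedSpace t ht
  refine isAffine_of_isAffineOpen_basicOpen {r : Γ(X', ⊤) | IsAffineOpen (X'.basicOpen r)} ?_
    fun r hr => hr
  algebraize [t.appTop.hom]
  have hXaff := isAffineOpen_top X
  obtain ⟨c, hc, hcov⟩ : ∃ c : Set Γ(X, ⊤), Ideal.span c = ⊤ ∧ ∀ e ∈ c, ∃ W₀ : X'.Opens,
      IsAffineOpen W₀ ∧ X.basicOpen e ≤ t ⁻¹ᵁ W₀ := by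
    refine ⟨{e | ∃ W₀ : X'.Opens, IsAffineOpen W₀ ∧ X.basicOpen e ≤ t ⁻¹ᵁ W₀}, ?_, fun e he => he⟩
    rw [← hXaff.iSup_basicOpen_eq_self_iff]
    refine eq_top_iff.mpr fun x _ => ?_
    obtain ⟨_, ⟨W₀ : X'.Opens, hW₀, rfl⟩, hxW₀, -⟩ :=
      X'.isBasis_affineOpens.exists_subset_of_mem_open (Set.mem_univ (t x)) isOpen_univ
    obtain ⟨e, he, hxe⟩ := hXaff.exists_basicOpen_le (V := t ⁻¹ᵁ W₀) ⟨x, hxW₀⟩ trivial
    exact Opens.mem_iSup.mpr ⟨⟨e, W₀, hW₀, he⟩, hxe⟩
  have hint : Algebra.IsIntegral Γ(X', ⊤) Γ(X, ⊤) := by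
    refine ⟨fun y => ?_⟩
    have hy : y ∈ Ideal.span c := hc ▸ Submodule.mem_top
    suffices h : ∀ z, IsIntegral Γ(X', ⊤) (z * y) from by simpa using h 1
    induction hy using Submodule.span_induction with
    | mem e he =>
      intro z
      obtain ⟨W₀, hW₀, heW⟩ := hcov e he
      obtain ⟨N, H, hN, hH⟩ := exists_pow_lift t ht (z * e) W₀ hW₀
        ((X.basicOpen_mul z e).le.trans (inf_le_right.trans heW))
      refine IsIntegral.of_pow hN ?_
      rw [← hH]
      exact isIntegral_algebraMap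
    | zero => intro z; rw [mul_zero]; exact isIntegral_zero
    | add a b _ _ ha hb => intro z; rw [mul_add]; exact (ha z).add (hb z)
    | smul r a _ ha => intro z; rw [smul_eq_mul, ← mul_assoc]; exact ha (z * r)
  by_contra hne
  obtain ⟨P, hP, hle⟩ := Ideal.exists_le_maximal _ hne
  haveI := hP.isPrime
  have hker : RingHom.ker (algebraMap Γ(X', ⊤) Γ(X, ⊤)) ≤ P := fun r hr => by
    obtain ⟨n, hn⟩ := isNilpotent_of_app_eq_zero t ht ⊤ isCompact_univ r hr
    exact hP.isPrime.mem_of_pow_mem n (hn ▸ P.zero_mem)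
  obtain ⟨Q, hQ, hQP⟩ := Ideal.exists_ideal_over_prime_of_isIntegral P (⊥ : Ideal Γ(X, ⊤))
    (by rwa [← RingHom.ker_eq_comap_bot])
  haveI := hQP.1
  obtain ⟨e, hec, heQ⟩ : ∃ e ∈ c, e ∉ Q := by
    by_contra hcon
    push Not at hcon
    exact hQP.1.ne_top (top_le_iff.mp (hc ▸ Ideal.span_le.mpr hcon))
  obtain ⟨W₀, hW₀, heW⟩ := hcov e hec
  obtain ⟨N, H, hN, hHaff, hpre, -⟩ := exists_affine_basicOpen t ht e W₀ hW₀ heW
  have hHP : t.appTop H ∈ Q := by
    have h1 : H ∈ Q.comap (algebraMap Γ(X', ⊤) Γ(X, ⊤)) := by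
      rw [hQP.2]
      exact hle (Ideal.subset_span hHaff)
    exact h1
  refine heQ ?_
  have h2 : hXaff.fromSpec ⟨Q, hQP.1⟩ ∉ X.basicOpen (t.appTop H) := fun h => by
    have h3 : (⟨Q, hQP.1⟩ : PrimeSpectrum Γ(X, ⊤)) ∈ hXaff.fromSpec ⁻¹ᵁ X.basicOpen (t.appTop H) := h
    rw [hXaff.fromSpec_preimage_basicOpen] at h3
    exact h3 hHP
  rw [← Scheme.preimage_basicOpen_top, hpre] at h2
  by_contra h4
  refine h2 ?_
  have h5 : (⟨Q, hQP.1⟩ : PrimeSpectrum Γ(X, ⊤)) ∈ hXaff.fromSpec ⁻¹ᵁ X.basicOpen e := by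
    rw [hXaff.fromSpec_preimage_basicOpen]
    exact h4
  exact h5

end Groth.Agent.Thicken
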