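import Mathlib
import Groth.Agent.Thicken.Affine

set_option autoImplicit false
set_option backward.isDefEq.respectTransparency false
set_option backward.defeqAttrib.useBackward true
set_option linter.style.haveILetI false

/-!
# Morphisms of thickenings
-/

universe u

open CategoryTheory AlgebraicGeometry TopologicalSpace

namespace Groth.Agent.Thicken

theorem isAffineHom_iff_of_thickening {X X' S S' : Scheme.{u}} (iX : X ⟶ X') (iS : S ⟶ S') (f : X ⟶ S)
    (f' : X' ⟶ S') [IsClosedImmersion iX] [IsClosedImmersion iS] [Surjective iX]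
    (w : iX ≫ f' = f ≫ iS) : IsAffineHom f ↔ IsAffineHom f' := by
  refine ⟨fun h => ⟨fun V hV => ?_⟩, fun h => ?_⟩
  · haveI : IsClosedImmersion (iX ∣_ (f' ⁻¹ᵁ V)) := IsZariskiLocalAtTarget.restrict ‹_› _
    haveI : Surjective (iX ∣_ (f' ⁻¹ᵁ V)) := IsZariskiLocalAtTarget.restrict ‹_› _
    haveI : IsAffine (iX ⁻¹ᵁ (f' ⁻¹ᵁ V)).toScheme := by
      show IsAffineOpen (iX ⁻¹ᵁ (f' ⁻¹ᵁ V))
      rw [← Scheme.Hom.comp_preimage, w, Scheme.Hom.comp_preimage]
      exact (hV.preimage iS).preimage f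
    exact isAffine (iX ∣_ (f' ⁻¹ᵁ V)) (iX ∣_ (f' ⁻¹ᵁ V)).surjective
  · haveI : IsAffineHom (f ≫ iS) := by rw [← w]; infer_instance
    exact IsAffineHom.of_comp f iS

theorem isIntegralHom_iff_of_thickening {X X' S S' : Scheme.{u}} (iX : X ⟶ X') (iS : S ⟶ S') (f : X ⟶ S)
    (f' : X' ⟶ S') [IsClosedImmersion iX] [IsClosedImmersion iS] [Surjective iX]
    (w : iX ≫ f' = f ≫ iS) : IsIntegralHom f ↔ IsIntegralHom f' := by
  refine ⟨fun h => ?_, fun h => ?_⟩
  · haveI : IsAffineHom f' := (isAffineHom_iff_of_thickening iX iS f f' w).mp inferInstance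
    haveI : UniversallyClosed (iX ≫ f') := by rw [w]; infer_instance
    exact IsIntegralHom.iff_universallyClosed_and_isAffineHom.mpr
      ⟨.of_comp_surjective iX f', inferInstance⟩
  · haveI : IsIntegralHom (f ≫ iS) := by rw [← w]; infer_instance
    exact IsIntegralHom.of_comp f iS

theorem isQuasiAffine_iff {Z X : Scheme.{u}} (i : Z ⟶ X) [IsClosedImmersion i]
    (hi : Function.Surjective i) : X.IsQuasiAffine ↔ Z.IsQuasiAffine := by
  refine ⟨fun h => Scheme.IsQuasiAffine.of_isAffineHom i, fun h => ?_⟩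
  haveI := compactSpace i hi
  haveI := quasiSeparatedSpace i hi
  refine Scheme.IsQuasiAffine.of_forall_exists_mem_basicOpen X fun x => ?_
  obtain ⟨z, rfl⟩ := hi x
  obtain ⟨_, ⟨W₀ : X.Opens, hW₀, rfl⟩, hxW₀, -⟩ :=
    X.isBasis_affineOpens.exists_subset_of_mem_open (Set.mem_univ (i z)) isOpen_univ
  obtain ⟨_, ⟨_, ⟨f, hf, rfl⟩, rfl⟩, hzf, hfW⟩ := (Scheme.IsQuasiAffine.isBasis_basicOpen
    Z).exists_subset_of_mem_open (a := z) (u := ↑(i ⁻¹ᵁ W₀)) hxW₀ (i ⁻¹ᵁ W₀).2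
  obtain ⟨N, H, -, hH, hpre, -⟩ := exists_affine_basicOpen i hi f W₀ hW₀ hfW
  exact ⟨H, hH, (SetLike.ext_iff.mp hpre z).mpr hzf⟩

end Groth.Agent.Thicken
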